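import Cfsg.Agent.H57.SL33.Flags

/-! Collineations of the plane of order 3 are induced by `SL₃(3)`. -/

namespace H57.SL33

open Matrix

/-- Adjacency in the incidence graph. -/
def AdjV (v w : V) : Prop :=
  match v, w with
  | .inl p, .inr l => Inc p l
  | .inr l, .inl p => Inc p l
  | _, _ => False

instance : ∀ v w : V, Decidable (AdjV v w)
  | .inl p, .inr l => inferInstanceAs (Decidable (Inc p l))
  | .inr l, .inl p => inferInstanceAs (Decidable (Inc p l))
  | .inl _, .inl _ => isFalse id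
  | .inr _, .inr _ => isFalse id

theorem adjV_iff (v w : V) : AdjV v w ↔ v ≠ w ∧ ∃ x : Fl, On v x ∧ On w x := by
  rcases v with p | p <;> rcases w with q | q
  · refine ⟨False.elim, fun ⟨hne, x, h1, h2⟩ => ?_⟩
    simp only [On, Sum.inl.injEq, reduceCtorEq, or_false, Sum.inr.injEq, false_or] at h1 h2
    exact (hne (by rw [h1, h2])).elim
  · exact ⟨fun h => ⟨by simp, ⟨(p, q), h⟩, .inl rfl, .inr rfl⟩, fun ⟨_, x, h1, h2⟩ => by
      simp only [On, Sum.inl.injEq, reduceCtorEq, or_false, Sum.inr.injEq, false_or] at h1 h2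
      subst h1 h2
      exact x.2⟩
  · exact ⟨fun h => ⟨by simp, ⟨(q, p), h⟩, .inr rfl, .inl rfl⟩, fun ⟨_, x, h1, h2⟩ => by
      simp only [On, Sum.inl.injEq, reduceCtorEq, or_false, Sum.inr.injEq, false_or] at h1 h2
      subst h1 h2
      exact x.2⟩
  · refine ⟨False.elim, fun ⟨hne, x, h1, h2⟩ => ?_⟩
    simp only [On, Sum.inl.injEq, reduceCtorEq, or_false, Sum.inr.injEq, false_or] at h1 h2
    exact (hne (by rw [h1, h2])).elim

theorem adjV_symm {v w : V} (h : AdjV v w) : AdjV w v := by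
  rw [adjV_iff] at h ⊢
  exact ⟨h.1.symm, h.2.imp fun _ h => ⟨h.2, h.1⟩⟩

theorem isLeft_of_adjV {v w : V} (h : AdjV v w) : w.isLeft = !v.isLeft := by
  rcases v with p | p <;> rcases w with q | q <;> first | exact h.elim | rfl

theorem exists_line : ∀ p q : Fin 13, ∃ l, Inc p l ∧ Inc q l := by decide +kernel

theorem exists_point : ∀ l : Fin 13, ∃ p, Inc p l := by decide +kernel

/-- A permutation of the vertices respecting incidence. -/
def Pres (φ : Equiv.Perm V) : Prop := ∀ v w, AdjV v w → AdjV (φ v) (φ w)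

theorem pres_mul {φ ψ : Equiv.Perm V} (h : Pres φ) (h' : Pres ψ) : Pres (φ * ψ) :=
  fun v w e => h _ _ (h' v w e)

/-- Incidence-preserving maps keep the two sides or exchange them. -/
theorem side {φ : Equiv.Perm V} (h : Pres φ) (v : V) :
    (φ v).isLeft = (v.isLeft == (φ (Sum.inl 0)).isLeft) := by
  have hp : ∀ p : Fin 13, (φ (Sum.inl p)).isLeft = (φ (Sum.inl 0)).isLeft := by
    intro p
    obtain ⟨l, hl, hl'⟩ := exists_line p 0
    have e1 := isLeft_of_adjV (h (Sum.inl p) (Sum.inr l) hl)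
    have e2 := isLeft_of_adjV (h (Sum.inl 0) (Sum.inr l) hl')
    rw [e1] at e2
    exact Bool.not_inj e2
  rcases v with p | l
  · rw [hp]
    cases (φ (Sum.inl 0)).isLeft <;> rfl
  · obtain ⟨p, hl⟩ := exists_point l
    rw [isLeft_of_adjV (h (Sum.inl p) (Sum.inr l) hl), hp]
    cases (φ (Sum.inl 0)).isLeft <;> rfl

theorem step {φ : Equiv.Perm V} (h : Pres φ) {a b c : V} (ha : φ a = a) (hb : φ b = b)
    (hu : AdjV a c ∧ AdjV b c ∧ ∀ v, AdjV a v → AdjV b v → v = c) : φ c = c := by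
  refine hu.2.2 _ ?_ ?_
  · rw [← ha]; exact h _ _ hu.1
  · rw [← hb]; exact h _ _ hu.2.1

theorem rigid {φ : Equiv.Perm V} (h : Pres φ) (f0 : φ (.inl 0) = .inl 0)
    (f9 : φ (.inl 9) = .inl 9) (f12 : φ (.inl 12) = .inl 12) (f4 : φ (.inl 4) = .inl 4) :
    φ = 1 := by
  have f24 : φ (Sum.inr 11 : V) = (Sum.inr 11 : V) := step h f0 f4 (by decide +kernel)
  have f25 : φ (Sum.inr 12 : V) = (Sum.inr 12 : V) := step h f0 f9 (by decide +kernel)
  have f22 : φ (Sum.inr 9 : V) = (Sum.inr 9 : V) := step h f0 f12 (by decide +kernel)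
  have f15 : φ (Sum.inr 2 : V) = (Sum.inr 2 : V) := step h f4 f9 (by decide +kernel)
  have f19 : φ (Sum.inr 6 : V) = (Sum.inr 6 : V) := step h f4 f12 (by decide +kernel)
  have f13 : φ (Sum.inr 0 : V) = (Sum.inr 0 : V) := step h f9 f12 (by decide +kernel)
  have f10 : φ (Sum.inl 10 : V) = (Sum.inl 10 : V) := step h f13 f24 (by decide +kernel)
  have f1 : φ (Sum.inl 1 : V) = (Sum.inl 1 : V) := step h f15 f22 (by decide +kernel)
  have f3 : φ (Sum.inl 3 : V) = (Sum.inl 3 : V) := step h f19 f25 (by decide +kernel)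
  have f21 : φ (Sum.inr 8 : V) = (Sum.inr 8 : V) := step h f1 f3 (by decide +kernel)
  have f18 : φ (Sum.inr 5 : V) = (Sum.inr 5 : V) := step h f1 f10 (by decide +kernel)
  have f20 : φ (Sum.inr 7 : V) = (Sum.inr 7 : V) := step h f3 f10 (by decide +kernel)
  have f11 : φ (Sum.inl 11 : V) = (Sum.inl 11 : V) := step h f13 f21 (by decide +kernel)
  have f7 : φ (Sum.inl 7 : V) = (Sum.inl 7 : V) := step h f15 f20 (by decide +kernel)
  have f5 : φ (Sum.inl 5 : V) = (Sum.inl 5 : V) := step h f18 f19 (by decide +kernel)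
  have f6 : φ (Sum.inl 6 : V) = (Sum.inl 6 : V) := step h f18 f25 (by decide +kernel)
  have f2 : φ (Sum.inl 2 : V) = (Sum.inl 2 : V) := step h f20 f22 (by decide +kernel)
  have f8 : φ (Sum.inl 8 : V) = (Sum.inl 8 : V) := step h f21 f24 (by decide +kernel)
  have f23 : φ (Sum.inr 10 : V) = (Sum.inr 10 : V) := step h f0 f5 (by decide +kernel)
  have f17 : φ (Sum.inr 4 : V) = (Sum.inr 4 : V) := step h f2 f4 (by decide +kernel)
  have f14 : φ (Sum.inr 1 : V) = (Sum.inr 1 : V) := step h f2 f5 (by decide +kernel)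
  have f16 : φ (Sum.inr 3 : V) = (Sum.inr 3 : V) := step h f6 f7 (by decide +kernel)
  refine Equiv.ext fun v => ?_
  rcases v with p | p <;> fin_cases p <;> assumption

theorem vec_base : vec 0 = ![1, 0, 0] ∧ vec 9 = ![0, 1, 0] ∧ vec 12 = ![0, 0, 1] ∧
    vec 4 = ![1, 1, 1] := ⟨rfl, rfl, rfl, rfl⟩

theorem rho_pres {H : Type*} [Group H] (G : SameGraph H) (k : H) : Pres (G.rho k) := by
  intro v w h
  rw [adjV_iff] at h ⊢
  obtain ⟨hne, x, h1, h2⟩ := h
  exact ⟨(G.rho k).injective.ne hne, G.sig k x, G.vmap_spec k h1, G.vmap_spec k h2⟩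

theorem rho_self_point (g : S) (p q : Fin 13) (c : ZMod 3)
    (h : mat g *ᵥ vec p = c • vec q) : selfGraph.rho g (Sum.inl p) = Sum.inl q := by
  refine selfGraph.vmap_unique fun x hx => ?_
  have hp : x.1.1 = p := by
    rcases hx with hx | hx
    · exact (Sum.inl.inj hx).symm
    · simp at hx
  obtain ⟨h', hc⟩ := conj_tv g (vec x.1.1) (vec x.1.2) x.2
  have hne : mat g *ᵥ vec x.1.1 ≠ 0 := by
    intro e
    have := congrArg (fun v => mat g⁻¹ *ᵥ v) e
    simp only [mulVec_mulVec, ← mat_mul, inv_mul_cancel, mat_one, one_mulVec, mulVec_zero] at this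
    exact vec_ne _ this
  have hne2 : vec x.1.2 ᵥ* mat g⁻¹ ≠ 0 := by
    intro e
    have := congrArg (fun v => v ᵥ* mat g) e
    simp only [vecMul_vecMul, ← mat_mul, inv_mul_cancel, mat_one, vecMul_one, zero_vecMul] at this
    exact vec_ne _ this
  obtain ⟨y, hy, d, hd⟩ := norm_tv _ _ h' hne hne2
  have hs : selfGraph.sig g x = y := by
    refine selfGraph.sig_unique ?_
    change cent (g * tr x * g⁻¹) = cent (tr y)
    rw [show g * tr x * g⁻¹ = _ from hc]
    rcases hy with hy | hy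
    · rw [hy]
    · rw [hy, cent_tr_sq]
  rw [hs]
  refine .inl (congrArg Sum.inl ?_)
  have hc0 : c ≠ 0 := by
    intro e
    rw [hp, h, e, zero_smul] at hne
    exact hne rfl
  rw [hp, h] at hd
  have e2 : vec q = (c⁻¹ * d) • vec y.1.1 := by
    rw [mul_smul, ← hd, smul_smul, inv_mul_cancel₀ hc0, one_smul]
  exact vec_unique _ _ _ e2

theorem dot3_line (l p : Fin 13) : Inc p l ↔ vec l ⬝ᵥ vec p = 0 := by
  rw [Inc, dot3_eq, dotProduct_comm]

theorem general_base : ∀ l : Fin 13, ¬ (Inc 0 l ∧ Inc 9 l ∧ Inc 12 l) ∧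
    ¬ (Inc 0 l ∧ Inc 9 l ∧ Inc 4 l) ∧ ¬ (Inc 0 l ∧ Inc 12 l ∧ Inc 4 l) ∧
    ¬ (Inc 9 l ∧ Inc 12 l ∧ Inc 4 l) := by
  decide +kernel

theorem zmod_sq : ∀ d : ZMod 3, d ≠ 0 → d * d = 1 := by decide

/-- A collineation is induced by an element of `SL₃(3)`. -/
theorem exists_element {φ : Equiv.Perm V} (h : Pres φ) (h' : Pres φ.symm)
    (hleft : (φ (Sum.inl 0)).isLeft = true) : ∃ g : S, selfGraph.rho g = φ := by
  have hpt : ∀ p : Fin 13, ∃ q, φ (Sum.inl p) = Sum.inl q := fun p => by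
    have := side h (Sum.inl p)
    rw [hleft] at this
    exact Sum.isLeft_iff.1 (by simpa using this)
  obtain ⟨a, ha⟩ := hpt 0
  obtain ⟨b, hb⟩ := hpt 9
  obtain ⟨c, hc⟩ := hpt 12
  obtain ⟨d, hd⟩ := hpt 4
  have back : ∀ {p q l : Fin 13}, φ (Sum.inl p) = Sum.inl q → Inc q l →
      AdjV (Sum.inl p) (φ.symm (Sum.inr l)) := by
    intro p q l e hl
    have := h' (Sum.inl q) (Sum.inr l) hl
    rwa [← e, Equiv.symm_apply_apply] at this
  have nocol : ∀ {p1 p2 p3 q1 q2 q3 : Fin 13}, φ (Sum.inl p1) = Sum.inl q1 →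
      φ (Sum.inl p2) = Sum.inl q2 → φ (Sum.inl p3) = Sum.inl q3 →
      (∀ l, ¬ (Inc p1 l ∧ Inc p2 l ∧ Inc p3 l)) →
      ∀ w : Fin 3 → ZMod 3, w ⬝ᵥ vec q1 = 0 → w ⬝ᵥ vec q2 = 0 → w ⬝ᵥ vec q3 = 0 → w = 0 := by
    intro p1 p2 p3 q1 q2 q3 e1 e2 e3 hno w w1 w2 w3
    by_contra hw
    obtain ⟨l, e, he, rfl⟩ := exists_vec w hw
    rw [smul_dotProduct, smul_eq_mul, mul_eq_zero, or_iff_right he, ← dot3_line] at w1 w2 w3
    have k1 := back e1 w1
    have k2 := back e2 w2
    have k3 := back e3 w3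
    rcases hs : φ.symm (Sum.inr l) with m | m <;> rw [hs] at k1 k2 k3
    · exact k1
    · exact hno m ⟨k1, k2, k3⟩
  let M : M3 := Matrix.of fun i j => ![vec a, vec b, vec c] j i
  have hdet : M.det ≠ 0 := by
    intro hz
    obtain ⟨w, hw0, hw⟩ := Matrix.exists_vecMul_eq_zero_iff.2 hz
    refine hw0 (nocol ha hb hc (fun l => (general_base l).1) w ?_ ?_ ?_)
    · exact congrFun hw 0
    · exact congrFun hw 1
    · exact congrFun hw 2
  let γ := M⁻¹ *ᵥ vec d
  have hγ : M *ᵥ γ = vec d := by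
    rw [mulVec_mulVec, Matrix.mul_nonsing_inv _ (Ne.isUnit hdet), one_mulVec]
  have hsum : ∀ w : Fin 3 → ZMod 3, w ⬝ᵥ vec d =
      γ 0 * (w ⬝ᵥ vec a) + γ 1 * (w ⬝ᵥ vec b) + γ 2 * (w ⬝ᵥ vec c) := by
    intro w
    rw [← hγ]
    simp [M, mulVec, dotProduct, Fin.sum_univ_three]
    ring
  have hγne : ∀ i, γ i ≠ 0 := by
    have key : ∀ {q1 q2 : Fin 13},
        (∀ w : Fin 3 → ZMod 3, w ⬝ᵥ vec q1 = 0 → w ⬝ᵥ vec q2 = 0 → w ⬝ᵥ vec d = 0 → w = 0) →
        ∀ x y : ZMod 3, ¬ ∀ w, w ⬝ᵥ vec d = x * (w ⬝ᵥ vec q1) + y * (w ⬝ᵥ vec q2) := by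
      intro q1 q2 hn x y he
      obtain ⟨l, l1, l2⟩ := exists_line q1 q2
      rw [dot3_line] at l1 l2
      exact vec_ne l (hn (vec l) l1 l2 (by rw [he, l1, l2, mul_zero, mul_zero, add_zero]))
    intro i hi
    fin_cases i
    · exact key (nocol hb hc hd fun l => (general_base l).2.2.2) (γ 1) (γ 2)
        fun w => by rw [hsum]; simp only [show γ 0 = 0 from hi]; ring
    · exact key (nocol ha hc hd fun l => (general_base l).2.2.1) (γ 0) (γ 2)
        fun w => by rw [hsum]; simp only [show γ 1 = 0 from hi]; ring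
    · exact key (nocol ha hb hd fun l => (general_base l).2.1) (γ 0) (γ 1)
        fun w => by rw [hsum]; simp only [show γ 2 = 0 from hi]; ring
  let N : M3 := M * Matrix.diagonal γ
  have hN : N.det ≠ 0 := by
    rw [det_mul, det_diagonal, Fin.prod_univ_three]
    exact mul_ne_zero hdet (mul_ne_zero (mul_ne_zero (hγne 0) (hγne 1)) (hγne 2))
  let e := N.det
  have he : (e • N).det = 1 := by
    rw [det_smul, Fintype.card_fin,
      show e ^ 3 * N.det = (e * e) * (e * N.det) by ring, zmod_sq e hN, one_mul]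
  let g : S := ⟨e • N, he⟩
  have hcol : ∀ (v : Fin 3 → ZMod 3), mat g *ᵥ v = e • (M *ᵥ fun i => γ i * v i) := by
    intro v
    rw [show mat g = e • N from rfl, smul_mulVec, ← mulVec_mulVec]
    congr 2
    funext i
    rw [mulVec_diagonal]
  have colm : ∀ v : Fin 3 → ZMod 3, M *ᵥ v = v 0 • vec a + v 1 • vec b + v 2 • vec c := by
    intro v
    funext i
    simp [M, mulVec, dotProduct, Fin.sum_univ_three]
    ring
  refine ⟨g, ?_⟩
  have g0 : selfGraph.rho g (Sum.inl 0) = Sum.inl a := by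
    refine rho_self_point g 0 a (e * γ 0) ?_
    rw [hcol, colm, vec_base.1]
    simp [mul_smul]
  have g9 : selfGraph.rho g (Sum.inl 9) = Sum.inl b := by
    refine rho_self_point g 9 b (e * γ 1) ?_
    rw [hcol, colm, vec_base.2.1]
    simp [mul_smul]
  have g12 : selfGraph.rho g (Sum.inl 12) = Sum.inl c := by
    refine rho_self_point g 12 c (e * γ 2) ?_
    rw [hcol, colm, vec_base.2.2.1]
    simp [mul_smul]
  have g4 : selfGraph.rho g (Sum.inl 4) = Sum.inl d := by
    refine rho_self_point g 4 d e ?_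
    rw [hcol, vec_base.2.2.2, ← hγ]
    congr 2
    funext i
    fin_cases i <;> simp
  have hψ : Pres (selfGraph.rho g⁻¹ * φ) := pres_mul (rho_pres _ _) h
  have hfix : ∀ {p q : Fin 13}, φ (Sum.inl p) = Sum.inl q → selfGraph.rho g (Sum.inl p) = Sum.inl q →
      (selfGraph.rho g⁻¹ * φ) (Sum.inl p) = Sum.inl p := by
    intro p q e1 e2
    rw [Equiv.Perm.mul_apply, e1, ← e2, map_inv]
    exact (selfGraph.rho g).symm_apply_apply _
  have := rigid hψ (hfix ha g0) (hfix hb g9) (hfix hc g12) (hfix hd g4)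
  rw [map_inv, inv_mul_eq_one] at this
  exact this

/-- A group with the commuting graph of `SL₃(3)` is isomorphic to it. -/
theorem nonempty_mulEquiv {H : Type*} [Group H] [Finite H] (G : SameGraph H) :
    Nonempty (H ≃* S) := by
  have hpre : ∀ k : H, Pres (G.rho k) ∧ Pres (G.rho k).symm := fun k =>
    ⟨rho_pres G k, by
      have := rho_pres G k⁻¹
      rwa [map_inv] at this⟩
  let s : H → Bool := fun k => (G.rho k (Sum.inl 0)).isLeft
  have hs : ∀ a b, s (a * b) = (s b == s a) := fun a b => by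
    simp only [s, map_mul, Equiv.Perm.mul_apply]
    exact side (hpre a).1 _
  have hs1 : s 1 = true := by simp [s]
  let H0 : Subgroup H :=
    { carrier := {k | s k = true}
      one_mem' := hs1
      mul_mem' := fun {a b} (ha : s a = true) (hb : s b = true) => by
        show s (a * b) = true
        rw [hs, ha, hb]; rfl
      inv_mem' := fun {a} (ha : s a = true) => by
        show s a⁻¹ = true
        have := hs a a⁻¹
        rw [mul_inv_cancel, hs1, ha] at this
        cases hh : s a⁻¹ <;> simp [hh] at this ⊢ }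
  have hR : ∀ k : H0, G.rho k ∈ selfGraph.rho.range := fun k =>
    exists_element (hpre k).1 (hpre k).2 k.2
  let e := MonoidHom.ofInjective (f := selfGraph.rho) selfGraph.rho_injective
  let ψ : H0 →* S := e.symm.toMonoidHom.comp ((G.rho.comp H0.subtype).codRestrict _ hR)
  have hψ : Function.Injective ψ := by
    intro x y hxy
    have := congrArg Subtype.val (e.symm.injective hxy)
    exact Subtype.ext (G.rho_injective this)
  by_cases htop : H0 = ⊤
  · have hcard : Nat.card H0 = Nat.card S := by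
      rw [htop, Subgroup.card_top, G.card_H, card_S]
    let e2 := MulEquiv.ofBijective ψ ((Nat.bijective_iff_injective_and_card ψ).2 ⟨hψ, hcard⟩)
    exact ⟨((Subgroup.topEquiv (G := H)).symm.trans (MulEquiv.subgroupCongr htop.symm)).trans e2⟩
  · exfalso
    obtain ⟨a, ha⟩ : ∃ a, a ∉ H0 := by
      by_contra hh
      push Not at hh
      exact htop (eq_top_iff.2 fun x _ => hh x)
    have ha' : s a = false := by simpa [H0] using ha
    have hidx : H0.index = 2 := by
      refine Subgroup.index_eq_two_iff.2 ⟨a, fun b => ?_⟩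
      change Xor' (s (b * a) = true) (s b = true)
      rw [hs, ha']
      cases s b <;> simp [Xor']
    have hcard : Nat.card H0 * 2 = 5616 := by
      rw [← hidx, Subgroup.card_mul_index, G.card_H]
    have hr : Nat.card ψ.range = 2808 := by
      rw [← Nat.card_congr (MonoidHom.ofInjective hψ).toEquiv]
      omega
    have hri : ψ.range.index = 2 := by
      have := ψ.range.card_mul_index
      rw [hr, card_S] at this
      omega
    haveI : ψ.range.Normal := Subgroup.normal_of_index_eq_two hri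
    have hq : Nat.card (S ⧸ ψ.range) = 2 := hri
    haveI : IsCyclic (S ⧸ ψ.range) := isCyclic_of_prime_card (p := 2) hq
    have hcomm : commutator S ≤ ψ.range :=
      Subgroup.Normal.quotient_commutative_iff_commutator_le.1 IsCyclic.isMulCommutative
    rw [H37.commutator_SL_eq_top (F := ZMod 3) (ι := Fin 3) (by simp), top_le_iff] at hcomm
    rw [hcomm, Subgroup.index_top] at hri
    omega

end H57.SL33
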