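import Cfsg.Agent.H57.SL33.Witness

/-! Centraliser orders in `SL₃(3)` divisible by 27 or 13. -/

namespace H57.SL33

open Matrix

theorem card_S : Nat.card S = 5616 := by
  have h := H37.card_SL_fin (F := ZMod 3) 3 (by norm_num)
  rw [Nat.card_zmod, Fin.prod_univ_three] at h
  norm_num at h
  show Nat.card (Matrix.SpecialLinearGroup (Fin 3) (ZMod 3)) = 5616
  rw [Nat.card_eq_fintype_card]
  omega

def e0 : Fin 3 → ZMod 3 := ![1, 0, 0]
def e1 : Fin 3 → ZMod 3 := ![0, 1, 0]
def e2 : Fin 3 → ZMod 3 := ![0, 0, 1]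

def u1 : S := tv e0 e1 (by decide)
def u2 : S := tv e1 e2 (by decide)
def l1 : S := tv e1 e0 (by decide)
def l2 : S := tv e2 e1 (by decide)

theorem zmod_cube : ∀ a : ZMod 3, a * a * a = 1 → a = 1 := by decide

theorem entries_of_comm_upper (g : S) (h1 : u1 * g = g * u1) (h2 : u2 * g = g * u2) :
    mat g 1 0 = 0 ∧ mat g 2 0 = 0 ∧ mat g 2 1 = 0 ∧ mat g 0 1 = 0 ∧ mat g 1 2 = 0 ∧
      mat g 0 0 = 1 ∧ mat g 1 1 = 1 ∧ mat g 2 2 = 1 := by
  have E1 := fun i j => congrArg (fun k : S => mat k i j) h1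
  have E2 := fun i j => congrArg (fun k : S => mat k i j) h2
  have a00 := E1 0 1
  have a02 := E1 0 2
  have a20 := E1 2 1
  have a10 := E1 0 0
  have b11 := E2 1 2
  have b20 := E2 1 1
  have b01 := E2 0 2
  simp [u1, u2, tmat, e0, e1, e2, vecMulVec_apply, Matrix.mul_apply, Fin.sum_univ_three,
    Matrix.one_apply] at a00 a02 a20 a10 b11 b20 b01
  have hd := mat_det g
  rw [det_fin_three] at hd
  simp [a02, a20, a10, b20, b01] at hd
  have e11 : mat g 1 1 = mat g 0 0 := by linear_combination a00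
  have e22 : mat g 2 2 = mat g 1 1 := by linear_combination b11
  rw [e22, e11] at hd
  have h00 := zmod_cube _ hd
  exact ⟨a10, a20, b20, b01, a02, h00, e11.trans h00, e22.trans (e11.trans h00)⟩

theorem eq_one_of_comm_lu (g : S) (h1 : u1 * g = g * u1) (h2 : u2 * g = g * u2)
    (h3 : l1 * g = g * l1) : g = 1 := by
  obtain ⟨a10, a20, a21, a01, a12, a00, a11, a22⟩ := entries_of_comm_upper g h1 h2
  have E3 := congrArg (fun k : S => mat k 1 2) h3
  simp [l1, tmat, e0, e1, vecMulVec_apply, Matrix.mul_apply, Fin.sum_univ_three,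
    Matrix.one_apply, a12] at E3
  refine mat_ext ?_
  ext i j
  fin_cases i <;> fin_cases j <;> simp [a10, a20, a21, a01, a12, a00, a11, a22, E3]

/-- Upper unitriangular matrices. -/
def upper : Subgroup S where
  carrier := {g | mat g 1 0 = 0 ∧ mat g 2 0 = 0 ∧ mat g 2 1 = 0 ∧ mat g 0 0 = 1 ∧ mat g 1 1 = 1 ∧ mat g 2 2 = 1}
  one_mem' := by simp
  mul_mem' := by
    rintro x y ⟨x10, x20, x21, x00, x11, x22⟩ ⟨y10, y20, y21, y00, y11, y22⟩
    simp [Matrix.mul_apply, Fin.sum_univ_three, x10, x20, x21, x00, x11, x22, y10, y20, y21, y00,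
      y11, y22]
  inv_mem' := by
    rintro x ⟨x10, x20, x21, x00, x11, x22⟩
    simp [mat_inv, adjugate_fin_three, x10, x20, x21, x00, x11, x22]

theorem upper_cube : ∀ a b c : ZMod 3,
    (!![1, a, b; 0, 1, c; 0, 0, 1] : Matrix (Fin 3) (Fin 3) (ZMod 3)) ^ 3 = 1 := by
  decide +kernel

theorem upper_isPGroup : IsPGroup 3 upper := by
  rintro ⟨g, g10, g20, g21, g00, g11, g22⟩
  refine ⟨1, Subtype.ext (mat_ext ?_)⟩
  rw [pow_one, Subgroup.coe_pow, mat_pow]
  have hg : mat g =
      !![1, mat g 0 1, mat g 0 2; 0, 1, mat g 1 2; 0, 0, 1] := by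
    ext i j
    fin_cases i <;> fin_cases j <;> simp [g10, g20, g21, g00, g11, g22]
  rw [hg, upper_cube]
  rfl

instance : Fact (Nat.Prime 13) := ⟨by norm_num⟩

theorem flag_of_twentyseven (x : S) (hx : x ≠ 1) (h : 27 ∣ Nat.card (cent x)) :
    ∃ y : Fl, x = tr y ∨ x = tr y * tr y := by
  haveI : Fact (Nat.Prime 3) := ⟨Nat.prime_three⟩
  obtain ⟨K, hK⟩ := Sylow.exists_subgroup_card_pow_prime 3 (n := 3) (by simpa using h)
  let K' : Subgroup S := K.map (cent x).subtype
  have hK' : Nat.card K' = 27 := by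
    rw [← Nat.card_congr (K.equivMapOfInjective _ (cent x).subtype_injective).toEquiv, hK]
    norm_num
  obtain ⟨P0, hP0⟩ := upper_isPGroup.exists_le_sylow
  have hf : (5616 : ℕ).factorization 3 = 3 := by
    rw [Nat.factorization_def _ Nat.prime_three]
    decide +kernel
  let PK : Sylow 3 S := Sylow.ofCard K' (by rw [hK', card_S, hf]; norm_num)
  obtain ⟨g, hg⟩ := MulAction.exists_smul_eq S P0 PK
  have hmem : ∀ u ∈ upper, g * u * g⁻¹ ∈ cent x := by
    intro u hu
    have h1 : g * u * g⁻¹ ∈ (PK : Subgroup S) := by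
      rw [← hg, Sylow.coe_subgroup_smul]
      exact ⟨u, hP0 hu, by simp [MulAut.smul_def]⟩
    obtain ⟨z, -, hz⟩ := Subgroup.mem_map.1 (show g * u * g⁻¹ ∈ K' from h1)
    rw [← hz]
    exact z.2
  let z := g⁻¹ * x * g
  have hzc : ∀ u ∈ upper, u * z = z * u := by
    intro u hu
    have e := mem_cent.1 (hmem u hu)
    calc u * z = g⁻¹ * (g * u * g⁻¹ * x) * g := by simp only [z]; group
      _ = g⁻¹ * (x * (g * u * g⁻¹)) * g := by rw [e]
      _ = z * u := by simp only [z]; group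
  have m1 : u1 ∈ upper := by
    refine ⟨?_, ?_, ?_, ?_, ?_, ?_⟩ <;> decide
  have m2 : u2 ∈ upper := by
    refine ⟨?_, ?_, ?_, ?_, ?_, ?_⟩ <;> decide
  obtain ⟨a10, a20, a21, a01, a12, a00, a11, a22⟩ :=
    entries_of_comm_upper z (hzc u1 m1) (hzc u2 m2)
  have hh : dot3 (mat z 0 2 • e0) e2 = 0 := by simp [dot3, e0, e2]
  have hz : z = tv (mat z 0 2 • e0) e2 hh := by
    refine mat_ext ?_
    ext i j
    fin_cases i <;> fin_cases j <;>
      simp [tmat, vecMulVec_apply, e0, e2, a10, a20, a21, a01, a12, a00, a11, a22]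
  have hxz : x = g * z * g⁻¹ := by simp only [z]; group
  obtain ⟨h', hc⟩ := conj_tv g _ _ hh
  rw [hz] at hxz
  rw [hc] at hxz
  have hne : ∀ a b : Fin 3 → ZMod 3, ∀ hab : dot3 a b = 0, (a = 0 ∨ b = 0) → tv a b hab = 1 := by
    intro a b hab h0
    refine mat_ext ?_
    rcases h0 with rfl | rfl <;> simp [tmat]
  obtain ⟨y, hy, -⟩ := norm_tv _ _ h'
    (fun ha => hx (hxz.trans (hne _ _ _ (.inl ha))))
    (fun hb => hx (hxz.trans (hne _ _ _ (.inr hb))))
  rw [← hxz] at hy
  exact ⟨y, hy⟩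

theorem wit_check : ∀ x : Fl, ∃ w ∈ witList, w.1 = x.1 ∧ w.2.det = 1 ∧
    (w.2 * tmat e0 e2 = tmat (vec x.1.1) (vec x.1.2) * w.2 ∨
     w.2 * tmat e0 e2 = tmat ((2 : ZMod 3) • vec x.1.1) (vec x.1.2) * w.2) := by
  decide +kernel

def upperLifted (g : S) : Subgroup S := upper.map (MulAut.conj g).toMonoidHom

theorem twentyseven_dvd (x : Fl) : 27 ∣ Nat.card (cent (tr x)) := by
  obtain ⟨w, -, -, hd, hw⟩ := wit_check x
  let g : S := ⟨w.2, hd⟩
  let t0 : S := tv e0 e2 (by decide)
  have h0 : upper ≤ cent t0 := by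
    rintro u ⟨u10, u20, u21, u00, u11, u22⟩
    rw [mem_cent]
    refine mat_ext ?_
    ext i j
    fin_cases i <;> fin_cases j <;>
      simp [t0, tmat, e0, e2, vecMulVec_apply, Matrix.mul_apply, Fin.sum_univ_three,
        Matrix.one_apply, u10, u20, u21, u00, u11, u22, add_comm]
  have hc : cent (g * t0 * g⁻¹) = cent (tr x) := by
    rcases hw with hw | hw
    · have e : g * t0 = tr x * g := mat_ext hw
      rw [e, mul_inv_cancel_right]
    · have e : g * t0 = tr x * tr x * g := by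
        refine mat_ext ?_
        rw [mat_mul, mat_mul, tr, tv_mul_self]
        exact hw
      rw [e, mul_inv_cancel_right, cent_tr_sq]
  have hle : upperLifted g ≤ cent (tr x) := by
    rw [← hc]
    rintro _ ⟨u, hu, rfl⟩
    have := mem_cent.1 (h0 hu)
    rw [mem_cent]
    simp only [MulEquiv.coe_toMonoidHom, MulAut.conj_apply]
    calc g * t0 * g⁻¹ * (g * u * g⁻¹) = g * (t0 * u) * g⁻¹ := by group
      _ = g * (u * t0) * g⁻¹ := by rw [this]
      _ = g * u * g⁻¹ * (g * t0 * g⁻¹) := by group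
  have hcard : Nat.card (upperLifted g) = 27 := by
    rw [upperLifted, Subgroup.card_map_of_injective (MulAut.conj g).injective]
    let e : upper ≃ ZMod 3 × ZMod 3 × ZMod 3 :=
      { toFun := fun u => (mat (u : S) 0 1, mat (u : S) 0 2, mat (u : S) 1 2)
        invFun := fun p => ⟨⟨!![1, p.1, p.2.1; 0, 1, p.2.2; 0, 0, 1], by simp [det_fin_three]⟩,
          by
            refine ⟨?_, ?_, ?_, ?_, ?_, ?_⟩ <;> rfl⟩
        left_inv := by
          rintro ⟨u, u10, u20, u21, u00, u11, u22⟩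
          refine Subtype.ext (mat_ext ?_)
          ext i j
          fin_cases i <;> fin_cases j <;> simp [mat_mk, u10, u20, u21, u00, u11, u22]
        right_inv := fun p => by simp [mat_mk] }
    rw [Nat.card_congr e, Nat.card_prod, Nat.card_prod, Nat.card_zmod]
  rw [← hcard]
  exact Subgroup.card_dvd_of_le hle

/-- A Singer element. -/
def s0 : S := ⟨!![0, 0, 1; 1, 0, 1; 0, 1, 0], by decide⟩

theorem mat_s0 : mat s0 = !![0, 0, 1; 1, 0, 1; 0, 1, 0] := rfl

theorem s0_vectors : (Finset.univ.filter fun v : Fin 3 → ZMod 3 =>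
    (!![v 0, v 2, v 1; v 1, v 0 + v 2, v 2 + v 1; v 2, v 1, v 0 + v 2] :
      Matrix (Fin 3) (Fin 3) (ZMod 3)).det = 1).card = 13 := by
  decide +kernel

theorem card_cent_s0 : Nat.card (cent s0) ≤ 13 := by
  rw [← s0_vectors]
  let T := Finset.univ.filter fun v : Fin 3 → ZMod 3 =>
    (!![v 0, v 2, v 1; v 1, v 0 + v 2, v 2 + v 1; v 2, v 1, v 0 + v 2] :
      Matrix (Fin 3) (Fin 3) (ZMod 3)).det = 1
  have hrep : ∀ g : cent s0, mat (g : S) =
      !![mat (g : S) 0 0, mat (g : S) 2 0, mat (g : S) 1 0;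
         mat (g : S) 1 0, mat (g : S) 0 0 + mat (g : S) 2 0, mat (g : S) 2 0 + mat (g : S) 1 0;
         mat (g : S) 2 0, mat (g : S) 1 0, mat (g : S) 0 0 + mat (g : S) 2 0] := by
    intro g
    have E := fun i j => congrArg (fun k : S => mat k i j)
      (mem_cent.1 g.2)
    have a := E 0 0
    have b := E 1 0
    have c := E 2 0
    have d := E 0 1
    have e := E 1 1
    have f := E 2 1
    simp [mat_s0, Matrix.mul_apply, Fin.sum_univ_three] at a b c d e f
    ext i j
    fin_cases i <;> fin_cases j <;> simp [← a, ← b, ← c, ← d, ← e, ← f]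
  rw [← Nat.card_eq_finsetCard T]
  refine Nat.card_le_card_of_injective
    (fun g : cent s0 => (⟨fun i => mat (g : S) i 0, ?_⟩ : T)) ?_
  · refine Finset.mem_filter.2 ⟨Finset.mem_univ _, ?_⟩
    rw [← hrep g]
    exact mat_det _
  · intro g g' h
    have h1 := congrArg Subtype.val h
    refine Subtype.ext (mat_ext ?_)
    rw [hrep g, hrep g', show mat (g : S) 0 0 = mat (g' : S) 0 0 from congrFun h1 0,
      show mat (g : S) 1 0 = mat (g' : S) 1 0 from congrFun h1 1,
      show mat (g : S) 2 0 = mat (g' : S) 2 0 from congrFun h1 2]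

theorem card_cent_of_order (s : S) (hs : orderOf s = 13) : Nat.card (cent s) ≤ 13 := by
  have h13 : orderOf s0 = 13 := orderOf_eq_prime (by decide +kernel) (by decide)
  have hf : (5616 : ℕ).factorization 13 = 1 := by
    rw [Nat.factorization_def _ (by norm_num : Nat.Prime 13)]
    decide +kernel
  let P : Sylow 13 S := Sylow.ofCard (Subgroup.zpowers s)
    (by rw [Nat.card_zpowers, hs, card_S, hf, pow_one])
  let Q : Sylow 13 S := Sylow.ofCard (Subgroup.zpowers s0)
    (by rw [Nat.card_zpowers, h13, card_S, hf, pow_one])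
  obtain ⟨g, hg⟩ := MulAction.exists_smul_eq S Q P
  have h1 : g * s0 * g⁻¹ ∈ Subgroup.zpowers s := by
    have : g * s0 * g⁻¹ ∈ (P : Subgroup S) := by
      rw [← hg, Sylow.coe_subgroup_smul]
      exact ⟨s0, Subgroup.mem_zpowers s0, by simp [MulAut.smul_def]⟩
    exact this
  obtain ⟨m, hm⟩ := Subgroup.mem_zpowers_iff.1 h1
  refine le_trans (Nat.card_le_card_of_injective
    (fun c : cent s => (⟨g⁻¹ * c * g, ?_⟩ : cent s0)) ?_) card_cent_s0
  · have e : Commute (g * s0 * g⁻¹) (c : S) := by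
      rw [← hm]
      exact (show Commute s (c : S) from mem_cent.1 c.2).zpow_left m
    rw [mem_cent]
    calc s0 * (g⁻¹ * c * g) = g⁻¹ * (g * s0 * g⁻¹ * c) * g := by group
      _ = g⁻¹ * (c * (g * s0 * g⁻¹)) * g := by rw [e.eq]
      _ = g⁻¹ * c * g * s0 := by group
  · intro c c' h
    have := congrArg Subtype.val h
    simpa using this

/-- An element whose centraliser order is divisible by 13 has centraliser of order 13. -/
theorem cent_thirteen (x : S) (hx : x ≠ 1) (h : 13 ∣ Nat.card (cent x)) :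
    Nat.card (cent x) = 13 := by
  obtain ⟨s, hs⟩ := exists_prime_orderOf_dvd_card' 13 h
  have hs' : orderOf (s : S) = 13 := by rw [Subgroup.orderOf_coe, hs]
  have hle := card_cent_of_order (s : S) hs'
  have hz : Subgroup.zpowers (s : S) ≤ cent (s : S) := by
    rw [Subgroup.zpowers_le, mem_cent]
  have heq : Subgroup.zpowers (s : S) = cent (s : S) :=
    Subgroup.eq_of_le_of_card_ge hz (by rw [Nat.card_zpowers, hs']; exact hle)
  have hxz : x ∈ Subgroup.zpowers (s : S) := by
    rw [heq, mem_cent]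
    exact (mem_cent.1 s.2).symm
  have hxo : orderOf x = 13 := by
    have hd := Subgroup.orderOf_dvd_natCard _ hxz
    rw [Nat.card_zpowers, hs'] at hd
    rcases (Nat.dvd_prime (by norm_num)).1 hd with h1 | h1
    · exact absurd (orderOf_eq_one_iff.1 h1) hx
    · exact h1
  exact le_antisymm (card_cent_of_order x hxo) (Nat.le_of_dvd Nat.card_pos h)

end H57.SL33
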