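import Cfsg.Agent.H57.SL33.Centralizers

/-! A group with the commuting graph of `SL₃(3)` permutes the flags and vertices of the plane. -/

namespace H57.SL33

open Matrix

/-- A group with the same commuting graph as `SL₃(3)`. -/
structure SameGraph (H : Type*) [Group H] where
  F : H ≃ S
  F_one : F 1 = 1
  comm : ∀ a b : H, a * b = b * a ↔ F a * F b = F b * F a

/-- `SL₃(3)` itself. -/
def selfGraph : SameGraph S := ⟨Equiv.refl S, rfl, fun _ _ => Iff.rfl⟩

theorem cent_conj_congr {H : Type*} [Group H] (k : H) {a b : H} (h : cent a = cent b) :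
    cent (k * a * k⁻¹) = cent (k * b * k⁻¹) := by
  have key : ∀ a c : H, c ∈ cent (k * a * k⁻¹) ↔ k⁻¹ * c * k ∈ cent a := by
    intro a c
    rw [mem_cent, mem_cent]
    constructor
    · intro e
      calc a * (k⁻¹ * c * k) = k⁻¹ * (k * a * k⁻¹ * c) * k := by group
        _ = k⁻¹ * (c * (k * a * k⁻¹)) * k := by rw [e]
        _ = k⁻¹ * c * k * a := by group
    · intro e
      calc k * a * k⁻¹ * c = k * (a * (k⁻¹ * c * k)) * k⁻¹ := by group
        _ = k * (k⁻¹ * c * k * a) * k⁻¹ := by rw [e]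
        _ = c * (k * a * k⁻¹) := by group
  ext c
  rw [key, key, h]

theorem comm_sep : ∀ x y : Fl, x ≠ y →
    ∃ z : Fl, ¬ ((x.1.1 = z.1.1 ∨ x.1.2 = z.1.2) ↔ (y.1.1 = z.1.1 ∨ y.1.2 = z.1.2)) := by
  decide +kernel

theorem cent_tr_injective {x y : Fl} (h : cent (tr x) = cent (tr y)) : x = y := by
  by_contra hne
  obtain ⟨z, hz⟩ := comm_sep x y hne
  apply hz
  rw [← comm_tr_iff, ← comm_tr_iff]
  exact mem_cent.symm.trans ((iff_of_eq (congrArg (fun K : Subgroup S => tr z ∈ K) h)).trans mem_cent)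

/-- Vertices of the incidence graph. -/
abbrev V := Fin 13 ⊕ Fin 13

/-- The flag `x` is on the vertex `v`. -/
abbrev On (v : V) (x : Fl) : Prop := v = Sum.inl x.1.1 ∨ v = Sum.inr x.1.2

/-- Two flags share a vertex. -/
abbrev AdjF (x y : Fl) : Prop := x.1.1 = y.1.1 ∨ x.1.2 = y.1.2

theorem three_on : ∀ v : V, ∃ a : Fl, On v a ∧ ∃ b : Fl, On v b ∧ a ≠ b ∧
    ∃ c : Fl, On v c ∧ a ≠ c ∧ b ≠ c := by
  decide +kernel

theorem adjF_of_on {v : V} {x y : Fl} (hx : On v x) (hy : On v y) : AdjF x y := by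
  rcases hx with hx | hx <;> rcases hy with hy | hy <;> rw [hx] at hy
  · exact .inl (Sum.inl.inj hy)
  · simp at hy
  · simp at hy
  · exact .inr (Sum.inr.inj hy)

theorem on_unique {v w : V} {x y : Fl} (hne : x ≠ y) (h1 : On v x) (h2 : On v y) (h3 : On w x)
    (h4 : On w y) : v = w := by
  by_contra hvw
  apply hne
  have h : x.1.1 = y.1.1 ∧ x.1.2 = y.1.2 := by
    rcases h1 with h1 | h1 <;> rcases h3 with h3 | h3 <;> rcases h2 with h2 | h2 <;>
      rcases h4 with h4 | h4 <;> subst h1 <;> subst h3 <;> simp_all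
  exact Subtype.ext (Prod.ext h.1 h.2)

theorem triangle {x y z : Fl} (hxy : x ≠ y) (hxz : x ≠ z) (hyz : y ≠ z) (h1 : AdjF x y)
    (h2 : AdjF x z) (h3 : AdjF y z) : ∃ v, On v x ∧ On v y ∧ On v z := by
  have aux : ∀ {p q : Fl}, p.1.1 = q.1.1 → p.1.2 = q.1.2 → p = q :=
    fun a b => Subtype.ext (Prod.ext a b)
  rcases h1 with h1 | h1
  · refine ⟨Sum.inl x.1.1, .inl rfl, .inl (by rw [h1]), .inl ?_⟩
    rcases h2 with h2 | h2
    · rw [h2]
    · rcases h3 with h3 | h3
      · rw [h1, h3]
      · exact absurd (aux h1 (h2.trans h3.symm)) hxy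
  · refine ⟨Sum.inr x.1.2, .inr rfl, .inr (by rw [h1]), .inr ?_⟩
    rcases h2 with h2 | h2
    · rcases h3 with h3 | h3
      · exact absurd (aux (h2.trans h3.symm) h1) hxy
      · rw [h1, h3]
    · rw [h2]

variable {H : Type*} [Group H]

namespace SameGraph

variable (G : SameGraph H)

theorem cent_iff (a c : H) : c ∈ cent a ↔ G.F c ∈ cent (G.F a) := by
  rw [mem_cent, mem_cent, G.comm]

theorem card_cent (a : H) : Nat.card (cent a) = Nat.card (cent (G.F a)) :=
  Nat.card_congr (Equiv.subtypeEquiv G.F (G.cent_iff a))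

theorem cent_eq_iff {a b : H} : cent a = cent b ↔ cent (G.F a) = cent (G.F b) := by
  constructor
  · intro h
    ext c
    rw [← G.F.apply_symm_apply c, ← G.cent_iff, ← G.cent_iff, h]
  · intro h
    ext c
    rw [G.cent_iff, G.cent_iff, h]

theorem F_ne_one {a : H} (h : a ≠ 1) : G.F a ≠ 1 := fun e =>
  h (G.F.injective (e.trans G.F_one.symm))

/-- The element of `H` matching the transvection of a flag. -/
def tH (x : Fl) : H := G.F.symm (tr x)

@[simp] theorem F_tH (x : Fl) : G.F (G.tH x) = tr x := G.F.apply_symm_apply _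

theorem tH_ne_one (x : Fl) : G.tH x ≠ 1 := fun e =>
  tr_ne_one x (by rw [← G.F_tH x, e, G.F_one])

theorem twentyseven (x : Fl) : 27 ∣ Nat.card (cent (G.tH x)) := by
  rw [G.card_cent, G.F_tH]
  exact twentyseven_dvd x

theorem cent_tH_injective {x y : Fl} (h : cent (G.tH x) = cent (G.tH y)) : x = y := by
  rw [G.cent_eq_iff, G.F_tH, G.F_tH] at h
  exact cent_tr_injective h

theorem exists_sig (k : H) (x : Fl) :
    ∃ y, cent (k * G.tH x * k⁻¹) = cent (G.tH y) := by
  have hne : k * G.tH x * k⁻¹ ≠ 1 := fun e => G.tH_ne_one x (conj_eq_one_iff.1 e)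
  have hcard : Nat.card (cent (k * G.tH x * k⁻¹)) = Nat.card (cent (G.tH x)) := by
    refine Nat.card_congr (Equiv.subtypeEquiv (MulAut.conj k).toEquiv fun c => ?_).symm
    rw [mem_cent, mem_cent]
    simp only [MulEquiv.toEquiv_eq_coe, EquivLike.coe_coe, MulAut.conj_apply]
    constructor
    · intro e
      calc k * G.tH x * k⁻¹ * (k * c * k⁻¹) = k * (G.tH x * c) * k⁻¹ := by group
        _ = k * (c * G.tH x) * k⁻¹ := by rw [e]
        _ = k * c * k⁻¹ * (k * G.tH x * k⁻¹) := by group
    · intro e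
      have e' : k * (G.tH x * c) * k⁻¹ = k * (c * G.tH x) * k⁻¹ := by
        calc k * (G.tH x * c) * k⁻¹ = k * G.tH x * k⁻¹ * (k * c * k⁻¹) := by group
          _ = k * c * k⁻¹ * (k * G.tH x * k⁻¹) := e
          _ = k * (c * G.tH x) * k⁻¹ := by group
      exact mul_left_cancel (mul_right_cancel e')
  obtain ⟨y, hy⟩ := flag_of_twentyseven _ (G.F_ne_one hne)
    (by rw [← G.card_cent, hcard]; exact G.twentyseven x)
  refine ⟨y, G.cent_eq_iff.2 ?_⟩
  rw [G.F_tH]
  rcases hy with hy | hy
  · rw [hy]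
  · rw [hy, cent_tr_sq]

/-- The induced map on flags. -/
noncomputable def sig (k : H) (x : Fl) : Fl := (G.exists_sig k x).choose

theorem sig_spec (k : H) (x : Fl) : cent (k * G.tH x * k⁻¹) = cent (G.tH (G.sig k x)) :=
  (G.exists_sig k x).choose_spec

theorem sig_unique {k : H} {x y : Fl} (h : cent (k * G.tH x * k⁻¹) = cent (G.tH y)) :
    G.sig k x = y :=
  G.cent_tH_injective ((G.sig_spec k x).symm.trans h)

theorem sig_one (x : Fl) : G.sig 1 x = x := G.sig_unique (by simp)

theorem sig_mul (a b : H) (x : Fl) : G.sig (a * b) x = G.sig a (G.sig b x) := by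
  refine G.sig_unique ?_
  rw [← G.sig_spec a, ← cent_conj_congr a (G.sig_spec b x)]
  congr 1
  group

theorem sig_injective (k : H) : Function.Injective (G.sig k) := fun x y h => by
  have := congrArg (G.sig k⁻¹) h
  rwa [← G.sig_mul, ← G.sig_mul, inv_mul_cancel, G.sig_one, G.sig_one] at this

theorem tH_comm_iff (x y : Fl) : G.tH y ∈ cent (G.tH x) ↔ AdjF x y := by
  rw [G.cent_iff, G.F_tH, G.F_tH, mem_cent, comm_tr_iff]

theorem sig_adj (k : H) {x y : Fl} (h : AdjF x y) : AdjF (G.sig k x) (G.sig k y) := by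
  rw [← G.tH_comm_iff] at h
  have h1 : k * G.tH y * k⁻¹ ∈ cent (G.tH (G.sig k x)) := by
    rw [← G.sig_spec, mem_cent]
    have e := mem_cent.1 h
    calc k * G.tH x * k⁻¹ * (k * G.tH y * k⁻¹) = k * (G.tH x * G.tH y) * k⁻¹ := by group
      _ = k * (G.tH y * G.tH x) * k⁻¹ := by rw [e]
      _ = k * G.tH y * k⁻¹ * (k * G.tH x * k⁻¹) := by group
  have h2 : G.tH (G.sig k x) ∈ cent (G.tH (G.sig k y)) := by
    rw [← G.sig_spec, mem_cent]
    exact (mem_cent.1 h1).symm
  exact ((G.tH_comm_iff _ _).1 h2).imp Eq.symm Eq.symm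

theorem exists_vmap (k : H) (v : V) : ∃ w, ∀ x, On v x → On w (G.sig k x) := by
  obtain ⟨a, ha, b, hb, hab, c, hc, hac, hbc⟩ := three_on v
  have inj : Function.Injective (G.sig k) := G.sig_injective k
  have adj : ∀ {p q}, On v p → On v q → AdjF (G.sig k p) (G.sig k q) := fun hp hq =>
    G.sig_adj k (adjF_of_on hp hq)
  obtain ⟨w, wa, wb, wc⟩ :=
    triangle (inj.ne hab) (inj.ne hac) (inj.ne hbc) (adj ha hb) (adj ha hc) (adj hb hc)
  refine ⟨w, fun x hx => ?_⟩
  by_cases hxa : x = a
  · rwa [hxa]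
  by_cases hxb : x = b
  · rwa [hxb]
  obtain ⟨u, ua, ub, ux⟩ := triangle (inj.ne hab) (inj.ne (Ne.symm hxa)) (inj.ne (Ne.symm hxb))
    (adj ha hb) (adj ha hx) (adj hb hx)
  rwa [on_unique (inj.ne hab) wa wb ua ub]

/-- The induced map on vertices. -/
noncomputable def vmap (k : H) (v : V) : V := (G.exists_vmap k v).choose

theorem vmap_spec (k : H) {v : V} {x : Fl} (h : On v x) : On (G.vmap k v) (G.sig k x) :=
  (G.exists_vmap k v).choose_spec x h

theorem vmap_unique {k : H} {v w : V} (h : ∀ x, On v x → On w (G.sig k x)) : G.vmap k v = w := by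
  obtain ⟨a, ha, b, hb, hab, -⟩ := three_on v
  exact on_unique ((G.sig_injective k).ne hab) (G.vmap_spec k ha) (G.vmap_spec k hb) (h a ha) (h b hb)

/-- The action on vertices. -/
noncomputable def rho : H →* Equiv.Perm V :=
  letI : MulAction H V :=
    { smul := fun k v => G.vmap k v
      one_smul := fun v => G.vmap_unique fun x hx => by rwa [G.sig_one]
      mul_smul := fun a b v => G.vmap_unique fun x hx => by
        rw [G.sig_mul]
        exact G.vmap_spec a (G.vmap_spec b hx) }
  MulAction.toPermHom H V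

theorem rho_apply (k : H) (v : V) : G.rho k v = G.vmap k v := rfl

theorem sig_eq_self {k : H} (hk : G.rho k = 1) (x : Fl) : G.sig k x = x := by
  have h1 := G.vmap_spec k (v := Sum.inl x.1.1) (x := x) (.inl rfl)
  have h2 := G.vmap_spec k (v := Sum.inr x.1.2) (x := x) (.inr rfl)
  rw [← G.rho_apply, hk, Equiv.Perm.one_apply] at h1 h2
  refine Subtype.ext (Prod.ext ?_ ?_)
  · rcases h1 with h1 | h1
    · exact (Sum.inl.inj h1).symm
    · simp at h1
  · rcases h2 with h2 | h2
    · simp at h2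
    · exact (Sum.inr.inj h2).symm

theorem mul_self_of_rho {k : H} (hk : G.rho k = 1) : k * k = 1 := by
  have hcomm : ∀ x : Fl, G.F (k * k) * tr x = tr x * G.F (k * k) := by
    intro x
    let a := G.tH x
    let b := G.F.symm (tr x * tr x)
    have hb : G.F b = tr x * tr x := G.F.apply_symm_apply _
    have hab : a ≠ b := by
      intro e
      have e' : tr x = tr x * tr x := G.F.symm.injective e
      exact tr_ne_one x (mul_left_cancel (a := tr x) (by rw [mul_one]; exact e'.symm))
    have hcb : cent b = cent a := by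
      rw [G.cent_eq_iff, hb, G.F_tH, cent_tr_sq]
    have img : ∀ c : H, c ≠ 1 → cent c = cent a →
        k * c * k⁻¹ = a ∨ k * c * k⁻¹ = b := by
      intro c hc hca
      have h1 : cent (k * c * k⁻¹) = cent a := by
        rw [cent_conj_congr k hca, G.sig_spec, G.sig_eq_self hk]
      have h2 : 27 ∣ Nat.card (cent (G.F (k * c * k⁻¹))) := by
        rw [← G.card_cent, h1]
        exact G.twentyseven x
      obtain ⟨y, hy⟩ := flag_of_twentyseven _ (G.F_ne_one fun e => hc (conj_eq_one_iff.1 e)) h2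
      have hyx : y = x := by
        refine cent_tr_injective ?_
        have h3 := (G.cent_eq_iff).1 h1
        rw [G.F_tH] at h3
        rcases hy with hy | hy
        · rwa [hy] at h3
        · rwa [hy, cent_tr_sq] at h3
      subst hyx
      rcases hy with hy | hy
      · exact .inl (G.F.injective (hy.trans (G.F_tH _).symm))
      · exact .inr (G.F.injective (hy.trans hb.symm))
    have hb1 : b ≠ 1 := fun e => tr_sq_ne_one x (by rw [← hb, e, G.F_one])
    have inj : Function.Injective fun c : H => k * c * k⁻¹ := fun c d e =>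
      mul_left_cancel (mul_right_cancel e)
    have fix : k * (k * a * k⁻¹) * k⁻¹ = a := by
      rcases img a (G.tH_ne_one x) rfl with h | h
      · rw [h, h]
      · rw [h]
        rcases img b hb1 hcb with h' | h'
        · exact h'
        · exact absurd (inj (h.trans h'.symm)) hab
    have e : k * k * a = a * (k * k) := by
      calc k * k * a = k * (k * a * k⁻¹) * k⁻¹ * (k * k) := by group
        _ = a * (k * k) := by rw [fix]
    rw [← G.F_tH x]
    exact (G.comm _ _).1 e
  refine G.F.injective ?_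
  rw [G.F_one]
  refine eq_one_of_comm_lu _ ?_ ?_ ?_
  · exact (hcomm ⟨(0, 9), by decide⟩).symm
  · exact (hcomm ⟨(9, 12), by decide⟩).symm
  · exact (hcomm ⟨(9, 0), by decide⟩).symm

theorem card_H {H : Type*} [Group H] (G : SameGraph H) : Nat.card H = 5616 := (Nat.card_congr G.F).trans card_S

/-- The action on vertices is faithful. -/
theorem rho_injective [Finite H] : Function.Injective G.rho := by
  haveI : Fact (Nat.Prime 2) := ⟨Nat.prime_two⟩
  rw [← MonoidHom.ker_eq_bot_iff]
  let K := G.rho.ker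
  have hp : IsPGroup 2 K := fun k => ⟨1, Subtype.ext (by
    rw [pow_one, sq, Subgroup.coe_mul, Subgroup.coe_one]
    exact G.mul_self_of_rho (MonoidHom.mem_ker.1 k.2))⟩
  obtain ⟨j, hj⟩ := IsPGroup.iff_card.1 hp
  obtain ⟨y, hy⟩ := exists_prime_orderOf_dvd_card' (G := H) 13 (by rw [G.card_H]; norm_num)
  letI : MulAction (Subgroup.zpowers y) K :=
    MulAction.compHom K ((MulAut.conjNormal (H := K)).comp (Subgroup.zpowers y).subtype)
  have hY : IsPGroup 13 (Subgroup.zpowers y) :=
    IsPGroup.of_card (n := 1) (by rw [Nat.card_zpowers, hy, pow_one])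
  have hmod := hY.card_modEq_card_fixedPoints K
  have hfix : ∀ k : K, k ∈ MulAction.fixedPoints (Subgroup.zpowers y) K → k = 1 := by
    intro k hk
    by_contra hne
    have hk1 : (k : H) ≠ 1 := fun e => hne (Subtype.ext e)
    have e := congrArg Subtype.val (hk ⟨y, Subgroup.mem_zpowers y⟩)
    change (MulAut.conjNormal (H := K) y k : H) = k at e
    rw [MulAut.conjNormal_apply, mul_inv_eq_iff_eq_mul] at e
    have h13 : 13 ∣ Nat.card (cent (G.F (k : H))) := by
      rw [← G.card_cent, ← hy]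
      exact Subgroup.orderOf_dvd_natCard _ (mem_cent.2 e.symm)
    have hc := cent_thirteen _ (G.F_ne_one hk1) h13
    have h2 : orderOf (k : H) ∣ 13 := by
      rw [← hc, ← G.card_cent]
      exact Subgroup.orderOf_dvd_natCard _ (mem_cent.2 rfl)
    have h2' : orderOf (k : H) ∣ 2 :=
      orderOf_dvd_of_pow_eq_one (by rw [sq]; exact G.mul_self_of_rho (MonoidHom.mem_ker.1 k.2))
    exact hk1 (orderOf_eq_one_iff.1 (Nat.eq_one_of_dvd_coprimes (by norm_num) h2' h2))
  have hf1 : Nat.card (MulAction.fixedPoints (Subgroup.zpowers y) K) = 1 := by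
    rw [Nat.card_eq_one_iff_unique]
    refine ⟨⟨fun a b => Subtype.ext ((hfix a a.2).trans (hfix b b.2).symm)⟩, ⟨1, fun m => ?_⟩⟩
    exact map_one ((MulAut.conjNormal (H := K)) (m : H))
  rw [hf1, hj] at hmod
  have hdvd : 2 ^ j ∣ 5616 := by
    rw [← hj, ← G.card_H]
    exact Subgroup.card_subgroup_dvd_card K
  have hj4 : j ≤ 4 := by
    by_contra h
    have : 2 ^ 5 ∣ 5616 := (Nat.pow_dvd_pow 2 (by omega)).trans hdvd
    norm_num at this
  have hj0 : j = 0 := by
    interval_cases j <;> first | rfl | (exact absurd hmod (by decide))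
  exact Subgroup.card_eq_one.1 (by rw [hj, hj0, pow_zero])

end SameGraph

end H57.SL33
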