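import Mathlib
import Cfsg.Agent.H37.Card
import Cfsg.Agent.H37.Generation

/-! `SL₃(3)`: transvections indexed by the flags of the projective plane of order 3. -/

namespace H57.SL33

open Matrix

/-- `SL₃(3)`. -/
abbrev S := Matrix.SpecialLinearGroup (Fin 3) (ZMod 3)

/-- `3 × 3` matrices over `ZMod 3`. -/
abbrev M3 := Matrix (Fin 3) (Fin 3) (ZMod 3)

/-- The matrix of an element. -/
def mat (g : S) : M3 := g.1

theorem mat_mk (m : M3) (h : m.det = 1) : mat ⟨m, h⟩ = m := rfl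

@[simp] theorem mat_mul (g h : S) : mat (g * h) = mat g * mat h := rfl

@[simp] theorem mat_one : mat (1 : S) = 1 := rfl

theorem mat_det (g : S) : (mat g).det = 1 := g.2

theorem mat_ext {g h : S} (e : mat g = mat h) : g = h := Subtype.ext e

theorem mat_inv (g : S) : mat g⁻¹ = (mat g).adjugate := rfl

theorem mat_pow (g : S) (k : ℕ) : mat (g ^ k) = mat g ^ k := rfl

/-- Normalised vectors: representatives of the 13 points (and of the 13 lines). -/
def vec : Fin 13 → Fin 3 → ZMod 3 :=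
  ![![1,0,0], ![1,0,1], ![1,0,2], ![1,1,0], ![1,1,1], ![1,1,2], ![1,2,0], ![1,2,1], ![1,2,2],
    ![0,1,0], ![0,1,1], ![0,1,2], ![0,0,1]]

def dot3 (a b : Fin 3 → ZMod 3) : ZMod 3 := a 0 * b 0 + a 1 * b 1 + a 2 * b 2

theorem dot3_eq (a b : Fin 3 → ZMod 3) : dot3 a b = a ⬝ᵥ b := by
  simp [dot3, dotProduct, Fin.sum_univ_three]

/-- Incidence of point `i` and line `j`. -/
abbrev Inc (i j : Fin 13) : Prop := dot3 (vec i) (vec j) = 0

/-- Flags. -/
abbrev Fl := {x : Fin 13 × Fin 13 // Inc x.1 x.2}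

def tmat (a b : Fin 3 → ZMod 3) : Matrix (Fin 3) (Fin 3) (ZMod 3) := 1 + vecMulVec a b

theorem tmat_det (a b : Fin 3 → ZMod 3) : (tmat a b).det = 1 + dot3 a b := by
  simp [det_fin_three, tmat, dot3, vecMulVec_apply]
  ring

/-- The transvection `1 + a bᵀ`. -/
def tv (a b : Fin 3 → ZMod 3) (h : dot3 a b = 0) : S :=
  ⟨tmat a b, by rw [tmat_det, h, add_zero]⟩

@[simp] theorem coe_tv (a b : Fin 3 → ZMod 3) (h : dot3 a b = 0) :
    mat (tv a b h) = tmat a b := rfl

/-- The transvection attached to a flag. -/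
def tr (x : Fl) : S := tv (vec x.1.1) (vec x.1.2) x.2

theorem conj_tv (g : S) (a b : Fin 3 → ZMod 3) (h : dot3 a b = 0) :
    ∃ h', g * tv a b h * g⁻¹ = tv (mat g *ᵥ a) (b ᵥ* mat g⁻¹) h' := by
  have hg : mat g * mat g⁻¹ = 1 := by rw [← mat_mul, mul_inv_cancel, mat_one]
  have hg' : mat g⁻¹ * mat g = 1 := by rw [← mat_mul, inv_mul_cancel, mat_one]
  refine ⟨?_, mat_ext ?_⟩
  · rw [dot3_eq, dotProduct_comm, dotProduct_mulVec, vecMul_vecMul, hg', vecMul_one,
      dotProduct_comm, ← dot3_eq, h]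
  · rw [mat_mul, mat_mul, coe_tv, coe_tv, tmat, tmat, mul_add, add_mul, mul_one, hg, mul_vecMulVec,
      vecMulVec_mul]

theorem tmat_mul (a b a' b' : Fin 3 → ZMod 3) :
    tmat a b * tmat a' b' =
      1 + vecMulVec a b + vecMulVec a' b' + dot3 b a' • vecMulVec a b' := by
  rw [tmat, tmat, mul_add, add_mul, add_mul, one_mul, one_mul, mul_one, vecMulVec_mul_vecMulVec,
    dot3_eq]
  ext i j
  simp [vecMulVec_apply]
  ring

theorem comm_tv_iff (a b a' b' : Fin 3 → ZMod 3) (h : dot3 a b = 0) (h' : dot3 a' b' = 0) :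
    tv a b h * tv a' b' h' = tv a' b' h' * tv a b h ↔
      ∀ i j, dot3 b a' * (a i * b' j) = dot3 b' a * (a' i * b j) := by
  constructor
  · intro e i j
    have e1 := congrArg (fun g : S => mat g i j) e
    simp only [mat_mul, coe_tv, tmat_mul] at e1
    simp only [Matrix.add_apply, Matrix.smul_apply, smul_eq_mul, vecMulVec_apply] at e1
    linear_combination e1
  · intro e
    refine mat_ext ?_
    rw [mat_mul, mat_mul, coe_tv, coe_tv, tmat_mul, tmat_mul]
    ext i j
    simp only [Matrix.add_apply, Matrix.smul_apply, smul_eq_mul, vecMulVec_apply]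
    linear_combination e i j

theorem adj_entries : ∀ x y : Fl,
    (∀ i j, dot3 (vec x.1.2) (vec y.1.1) * (vec x.1.1 i * vec y.1.2 j) =
        dot3 (vec y.1.2) (vec x.1.1) * (vec y.1.1 i * vec x.1.2 j)) ↔
      (x.1.1 = y.1.1 ∨ x.1.2 = y.1.2) := by
  decide +kernel

theorem comm_tr_iff (x y : Fl) :
    tr x * tr y = tr y * tr x ↔ (x.1.1 = y.1.1 ∨ x.1.2 = y.1.2) :=
  (comm_tv_iff _ _ _ _ _ _).trans (adj_entries x y)

theorem vec_ne : ∀ p : Fin 13, vec p ≠ 0 := by decide +kernel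

theorem exists_vec : ∀ a : Fin 3 → ZMod 3, a ≠ 0 →
    ∃ (p : Fin 13) (c : ZMod 3), c ≠ 0 ∧ a = c • vec p := by decide +kernel

theorem vec_unique : ∀ (p q : Fin 13) (c : ZMod 3), vec p = c • vec q → p = q := by decide +kernel

theorem tr_ne_one (x : Fl) : tr x ≠ 1 := by
  intro h
  have h1 : ∀ i j, vec x.1.1 i * vec x.1.2 j = 0 := fun i j => by
    have e := congrArg (fun g : S => mat g i j) h
    rw [tr, coe_tv, mat_one] at e
    simpa [tmat, vecMulVec_apply] using e
  obtain ⟨i, hi⟩ := Function.ne_iff.1 (vec_ne x.1.1)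
  obtain ⟨j, hj⟩ := Function.ne_iff.1 (vec_ne x.1.2)
  exact (mul_ne_zero hi hj) (h1 i j)

theorem tv_mul_self (a b : Fin 3 → ZMod 3) (h : dot3 a b = 0) :
    mat (tv a b h * tv a b h) = tmat ((2 : ZMod 3) • a) b := by
  have hba : dot3 b a = 0 := by rw [dot3_eq, dotProduct_comm, ← dot3_eq, h]
  rw [mat_mul, coe_tv, tmat_mul, hba, zero_smul, add_zero, tmat, smul_vecMulVec,
    two_smul, add_assoc]

theorem tv_pow_three (a b : Fin 3 → ZMod 3) (h : dot3 a b = 0) : tv a b h ^ 3 = 1 := by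
  have hba : dot3 b a = 0 := by rw [dot3_eq, dotProduct_comm, ← dot3_eq, h]
  have hba' : dot3 b ((2 : ZMod 3) • a) = 0 := by
    rw [dot3_eq, dotProduct_smul, ← dot3_eq, hba, smul_zero]
  rw [pow_succ', pow_two]
  refine mat_ext ?_
  rw [mat_mul, tv_mul_self, coe_tv, tmat_mul, hba', zero_smul, add_zero,
    smul_vecMulVec, mat_one, add_assoc]
  conv_lhs => arg 2; arg 1; rw [← one_smul (ZMod 3) (vecMulVec a b)]
  rw [← add_smul]
  have h3 : (1 : ZMod 3) + 2 = 0 := by decide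
  rw [h3, zero_smul, add_zero]

theorem tr_sq_ne_one (x : Fl) : tr x * tr x ≠ 1 := by
  intro h
  have h3 : tr x ^ 3 = 1 := tv_pow_three _ _ _
  rw [pow_succ, pow_two, h, one_mul] at h3
  exact tr_ne_one x h3

/-- Centraliser of one element. -/
abbrev cent {M : Type*} [Group M] (g : M) : Subgroup M := Subgroup.centralizer ({g} : Set M)

theorem mem_cent {M : Type*} [Group M] {g h : M} : h ∈ cent g ↔ g * h = h * g :=
  Subgroup.mem_centralizer_singleton_iff.trans eq_comm

theorem cent_tr_sq (x : Fl) : cent (tr x * tr x) = cent (tr x) := by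
  have h3 : tr x ^ 3 = 1 := tv_pow_three _ _ _
  ext g
  rw [mem_cent, mem_cent]
  constructor
  · intro e
    have e' : Commute (tr x * tr x) g := e
    have h4 : tr x * tr x * (tr x * tr x) = tr x := by
      rw [show tr x * tr x * (tr x * tr x) = tr x ^ 3 * tr x by simp only [pow_succ, pow_zero, one_mul, mul_assoc], h3, one_mul]
    have := e'.mul_left e'
    rw [h4] at this
    exact this
  · intro e
    exact (Commute.mul_left (show Commute (tr x) g from e) e)

theorem norm_tv (a b : Fin 3 → ZMod 3) (h : dot3 a b = 0) (ha : a ≠ 0) (hb : b ≠ 0) :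
    ∃ x : Fl, (tv a b h = tr x ∨ tv a b h = tr x * tr x) ∧
      ∃ c : ZMod 3, a = c • vec x.1.1 := by
  obtain ⟨p, c, hc, hap⟩ := exists_vec a ha
  obtain ⟨l, d, hd, hbl⟩ := exists_vec b hb
  have hi : Inc p l := by
    have h' := h
    rw [hap, hbl, dot3_eq, smul_dotProduct, dotProduct_smul, ← dot3_eq, smul_eq_mul, smul_eq_mul,
      ← mul_assoc, mul_eq_zero] at h'
    exact h'.resolve_left (mul_ne_zero hc hd)
  refine ⟨⟨(p, l), hi⟩, ?_, c, hap⟩
  have key : ∀ c d : ZMod 3, c ≠ 0 → d ≠ 0 → c * d = 1 ∨ c * d = 2 := by decide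
  have hm : ∀ e : ZMod 3, c * d = e → tmat a b = tmat (e • vec p) (vec l) := by
    intro e he
    rw [tmat, tmat, hap, hbl, smul_vecMulVec, vecMulVec_smul, smul_smul, he, smul_vecMulVec]
  rcases key c d hc hd with hcd | hcd
  · left
    refine mat_ext ?_
    rw [coe_tv, hm _ hcd, one_smul]
    rfl
  · right
    refine mat_ext ?_
    rw [coe_tv, hm _ hcd, tr, tv_mul_self]

end H57.SL33
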