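import Cfsg.Agent.H57.SL33.Transvection

namespace H57.SL33

/-- For each flag a matrix carrying the base flag to it. -/
def witList : List ((Fin 13 × Fin 13) × Matrix (Fin 3) (Fin 3) (ZMod 3)) := [
  ((0, 9), !![1,1,0;0,0,2;0,1,0]),
  ((0, 10), !![1,1,0;0,1,0;0,2,1]),
  ((0, 11), !![1,1,0;0,1,0;0,1,1]),
  ((0, 12), !![1,1,0;0,1,0;0,0,1]),
  ((1, 2), !![1,1,0;0,1,0;1,1,1]),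
  ((1, 5), !![1,1,0;0,1,0;1,2,1]),
  ((1, 8), !![1,1,0;0,1,0;1,0,1]),
  ((1, 9), !![1,1,0;0,0,1;1,0,0]),
  ((2, 1), !![1,1,0;0,1,0;2,2,1]),
  ((2, 4), !![1,1,0;0,1,0;2,1,1]),
  ((2, 7), !![1,1,0;0,1,0;2,0,1]),
  ((2, 9), !![1,1,0;0,0,2;2,0,0]),
  ((3, 6), !![1,1,0;1,1,2;0,1,0]),
  ((3, 7), !![1,1,0;1,0,0;0,2,2]),
  ((3, 8), !![1,1,0;1,0,0;0,1,2]),
  ((3, 12), !![1,1,0;1,0,0;0,0,2]),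
  ((4, 2), !![1,1,0;1,0,0;1,1,2]),
  ((4, 4), !![1,1,0;1,0,0;1,2,2]),
  ((4, 6), !![1,1,0;1,1,1;1,0,0]),
  ((4, 11), !![1,1,0;1,0,0;1,0,2]),
  ((5, 1), !![1,1,0;1,0,0;2,2,2]),
  ((5, 5), !![1,1,0;1,0,0;2,1,2]),
  ((5, 6), !![1,1,0;1,1,2;2,0,0]),
  ((5, 10), !![1,1,0;1,0,0;2,0,2]),
  ((6, 3), !![1,1,0;2,2,2;0,1,0]),
  ((6, 4), !![1,1,0;2,0,0;0,2,1]),
  ((6, 5), !![1,1,0;2,0,0;0,1,1]),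
  ((6, 12), !![1,1,0;2,0,0;0,0,1]),
  ((7, 2), !![1,1,0;2,0,0;1,1,1]),
  ((7, 3), !![1,1,0;2,2,1;1,0,0]),
  ((7, 7), !![1,1,0;2,0,0;1,2,1]),
  ((7, 10), !![1,1,0;2,0,0;1,0,1]),
  ((8, 1), !![1,1,0;2,0,0;2,2,1]),
  ((8, 3), !![1,1,0;2,2,2;2,0,0]),
  ((8, 8), !![1,1,0;2,0,0;2,1,1]),
  ((8, 11), !![1,1,0;2,0,0;2,0,1]),
  ((9, 0), !![0,0,1;1,1,0;0,1,0]),
  ((9, 1), !![0,1,0;1,0,0;0,2,2]),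
  ((9, 2), !![0,1,0;1,0,0;0,1,2]),
  ((9, 12), !![0,1,0;1,0,0;0,0,2]),
  ((10, 0), !![0,0,2;1,1,0;1,0,0]),
  ((10, 5), !![0,1,0;1,0,0;1,1,2]),
  ((10, 7), !![0,1,0;1,0,0;1,2,2]),
  ((10, 11), !![0,1,0;1,0,0;1,0,2]),
  ((11, 0), !![0,0,1;1,1,0;2,0,0]),
  ((11, 4), !![0,1,0;1,0,0;2,2,2]),
  ((11, 8), !![0,1,0;1,0,0;2,1,2]),
  ((11, 10), !![0,1,0;1,0,0;2,0,2]),
  ((12, 0), !![0,0,2;0,1,0;1,0,0]),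
  ((12, 3), !![0,1,0;0,2,1;1,0,0]),
  ((12, 6), !![0,1,0;0,1,1;1,0,0]),
  ((12, 9), !![0,1,0;0,0,1;1,0,0])]

end H57.SL33
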